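import Groth.Agent.DCat.LTensorModule
import Groth.Agent.DRingLib.PCRestrict
import Groth.Agent.HenselLib.WEtale

/-!
# Tor amplitude and restriction of scalars along weakly étale maps
-/

set_option autoImplicit false
set_option backward.isDefEq.respectTransparency false
set_option backward.defeqAttrib.useBackward true

universe u

open CategoryTheory CategoryTheory.Limits HomologicalComplex
attribute [local instance] HasDerivedCategory.standard

namespace Groth.Agent.FlatMorTorAmp

variable {A B : Type u} [CommRing A] [CommRing B] (φ : A →+* B)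

theorem flat_restrict (hφ : φ.Flat) (M : ModuleCat.{u} B) [Module.Flat B M] :
    Module.Flat A ((ModuleCat.restrictScalars.{u} φ).obj M) := by
  let _ := φ.toAlgebra
  have : Module.Flat A B := hφ
  let _ : Module A M := Module.compHom M φ
  have : IsScalarTower A B M := IsScalarTower.of_algebraMap_smul fun _ _ => rfl
  exact Module.Flat.trans A B M

theorem amp_restrict (hφ : φ.Flat) {a b : ℤ} {K : Dual.D B} (h : DRing.HasTorAmplitudeIn B a b K) :
    DRing.HasTorAmplitudeIn A a b ((DRing.restrictD φ).obj K) := by
  obtain ⟨E, hE, hf, ⟨e⟩⟩ := h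
  refine ⟨(DRingLib.resK φ).obj E, fun i hi => (ModuleCat.restrictScalars.{u} φ).map_isZero (hE i hi),
    fun i => ?_, ⟨(((ModuleCat.restrictScalars.{u} φ).mapDerivedCategoryFactors).app E).symm ≪≫
      (DRing.restrictD φ).mapIso e⟩⟩
  have := hf i
  exact flat_restrict φ hφ (E.X i)

theorem amp_of_restrict (hφ : φ.Flat)
    (hdesc : ∀ M : ModuleCat.{u} B, Module.Flat A ((ModuleCat.restrictScalars.{u} φ).obj M) →
      Module.Flat B M) {a b : ℤ} {K : Dual.D B}
    (h : DRing.HasTorAmplitudeIn A a b ((DRing.restrictD φ).obj K)) :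
    DRing.HasTorAmplitudeIn B a b K := by
  obtain ⟨E, hE, -, ⟨e₀⟩⟩ := id h
  have hz : ∀ i, i < a ∨ b < i →
      IsZero ((DerivedCategory.homologyFunctor (ModuleCat.{u} B) i).obj K) := fun i hi => by
    have h1 : IsZero ((DerivedCategory.homologyFunctor (ModuleCat.{u} A) i).obj
        ((DRing.restrictD φ).obj K)) := by
      refine IsZero.of_iso ?_ ((DerivedCategory.homologyFunctor (ModuleCat.{u} A) i).mapIso e₀.symm)
      rw [DCat.isZero_homology_toD_iff]
      rw [HomologicalComplex.exactAt_iff]
      exact ShortComplex.exact_of_isZero_X₂ _ (hE i hi)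
    have h2 := h1.of_iso (DRingLib.hfRestrictIso φ K i).symm
    have := ModuleCat.subsingleton_of_isZero h2
    exact @ModuleCat.isZero_of_subsingleton B _ _ (inferInstanceAs (Subsingleton
      ((ModuleCat.restrictScalars.{u} φ).obj
        ((DerivedCategory.homologyFunctor (ModuleCat.{u} B) i).obj K))))
  obtain ⟨P, hP, hPf, hPb, ⟨e⟩⟩ := DCat.exists_flat_rep (b := b) (K := K) fun i hi => hz i (Or.inr hi)
  have : P.IsGE a := by
    rw [CochainComplex.isGE_iff]
    intro i hi
    rw [← DCat.isZero_homology_toD_iff]
    exact (hz i (Or.inl hi)).of_iso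
      ((DerivedCategory.homologyFunctor (ModuleCat.{u} B) i).mapIso e)
  have : P.IsStrictlyLE b := by
    rw [CochainComplex.isStrictlyLE_iff]
    exact hPb
  refine ⟨P.truncGE a, fun i hi => ?_, fun i => ?_,
    ⟨(asIso (DerivedCategory.Q.map (P.πTruncGE a))).symm ≪≫ e⟩⟩
  · obtain hi | hi := hi
    · exact CochainComplex.isZero_of_isStrictlyGE _ a i hi
    · by_cases hia : i < a
      · exact CochainComplex.isZero_of_isStrictlyGE _ a i hia
      · exact CochainComplex.isZero_of_isStrictlyLE _ b i hi
  · rcases lt_trichotomy i a with hi | rfl | hi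
    · have := ModuleCat.subsingleton_of_isZero (CochainComplex.isZero_of_isStrictlyGE (P.truncGE a) a i hi)
      infer_instance
    · let Q := (DRingLib.resK φ).obj P
      have hQf : DRing.TermwiseFlat Q := fun j => have := hPf j; flat_restrict φ hφ (P.X j)
      have hQb : DRing.VanishesAbove Q b := fun j hj =>
        (ModuleCat.restrictScalars.{u} φ).map_isZero (hPb j hj)
      have : ∀ M : ModuleCat.{u} A, DRing.HasLTensor A M := fun M => DCat.hasLTensor M
      have hfl : Module.Flat A
          (cokernel ((ModuleCat.restrictScalars.{u} φ).map (P.d (i - 1) i)) : ModuleCat.{u} A) :=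
        DCat.flat_cokernel_cat Q (DCat.isKFlatFor_of_vanishesAbove Q b hQb hQf) hQf i
          (K := (DRing.restrictD φ).obj K)
          ((((ModuleCat.restrictScalars.{u} φ).mapDerivedCategoryFactors).app P).symm ≪≫
            (DRing.restrictD φ).mapIso e)
          fun M => DCat.vanish_of_flatAmp h M (Or.inl (by omega))
      have hfl' : Module.Flat B (cokernel (P.d (i - 1) i) : ModuleCat.{u} B) := hdesc _
        (Module.Flat.of_linearEquiv
          (PreservesCokernel.iso (ModuleCat.restrictScalars.{u} φ) (P.d (i - 1) i)).toLinearEquiv)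
      exact @Module.Flat.of_linearEquiv _ _ _ _ _ _ _ _ hfl'
        (IsColimit.coconePointUniqueUpToIso (colimit.isColimit _)
        (P.opcyclesIsCokernel (i - 1) i (by simp)) ≪≫ (P.truncGEXIsoOpcycles i).symm).toLinearEquiv.symm
    · have := hPf i
      exact Module.Flat.of_linearEquiv (P.truncGEXIso a i (by omega)).toLinearEquiv

/-- Tor amplitude is insensitive to restriction along a weakly étale map. -/
theorem amp_iff_restrict {A B : Type u} [CommRing A] [CommRing B] [Algebra A B]
    [Algebra.WeaklyEtale A B] (a b : ℤ) (K : Dual.D B) :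
    DRing.HasTorAmplitudeIn A a b ((DRing.restrictD (algebraMap A B)).obj K) ↔
      DRing.HasTorAmplitudeIn B a b K := by
  have hflat : (algebraMap A B).Flat := RingHom.flat_algebraMap_iff.2 inferInstance
  refine ⟨amp_of_restrict _ hflat fun M hM => ?_, amp_restrict _ hflat⟩
  let _ : Module A M := Module.compHom M (algebraMap A B)
  have : IsScalarTower A B M := IsScalarTower.of_algebraMap_smul fun _ _ => rfl
  have : Module.Flat A M := hM
  exact Groth.Agent.HenselLib.WEt.flat_of_flat_lmul (Algebra.WeaklyEtale.flat_lmul' A B) M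

end Groth.Agent.FlatMorTorAmp
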